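import Groth.Agent.Cone34.Pullback
import Groth.Agent.ProjBC35.AwayPushout
import Mathlib.AlgebraicGeometry.ProjectiveSpectrum.Functor
import Mathlib.AlgebraicGeometry.Pullbacks

/-!
# Base change of `Proj` over an affine base
-/

set_option autoImplicit false
set_option linter.style.haveILetI false

universe u

open CategoryTheory CategoryTheory.Limits AlgebraicGeometry TopologicalSpace
open HomogeneousLocalization
open scoped HomogeneousIdeal

namespace Groth.Agent.Cone34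

theorem iSup_opensRange_awayι {R A : Type u} [CommRing R] [CommRing A] [Algebra R A]
    (𝒜 : ℕ → Submodule R A) [GradedAlgebra 𝒜] :
    ⨆ i : (Σ' (d : ℕ) (_ : 0 < d) (f : A), f ∈ 𝒜 d),
      (Proj.awayι 𝒜 i.2.2.1 i.2.2.2 i.2.1).opensRange = ⊤ := by
  refine eq_top_iff.2 fun x _ => ?_
  obtain ⟨s, z, hz⟩ : ∃ s, x ∈ Set.range ((Proj.affineOpenCover 𝒜).f s) :=
    ⟨_, (Proj.affineOpenCover 𝒜).covers x⟩
  exact Opens.mem_iSup.2 ⟨⟨s.1, s.1.2, s.2, s.2.2⟩, z, hz⟩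

variable {R R' A B : Type u} [CommRing R'] [CommRing R] [Algebra R' R]
  [CommRing B] [Algebra R' B] (ℬ : ℕ → Submodule R' B) [GradedAlgebra ℬ]
  [CommRing A] [Algebra R A] [Algebra R' A] [IsScalarTower R' R A] (𝒜 : ℕ → Submodule R A) [GradedAlgebra 𝒜]
  [Algebra B A] [IsScalarTower R' B A]

theorem algebraMap_mem_zero (r : R) : algebraMap R A r ∈ 𝒜 0 := SetLike.algebraMap_mem_graded 𝒜 r

theorem awayι_comp_base {d : ℕ} {f : A} (hf : f ∈ 𝒜 d) (hd : 0 < d) :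
    Proj.awayι 𝒜 f hf hd ≫ Proj.toSpecZero 𝒜 ≫ Spec.map (CommRingCat.ofHom (algebraMap R (𝒜 0))) =
      Spec.map (CommRingCat.ofHom
        (ProjBC35.baseToAway (algebraMap R A) (algebraMap_mem_zero 𝒜) f)) := by
  rw [Proj.awayι_toSpecZero_assoc, ← Spec.map_comp]
  congr 1

variable [Algebra.IsPushout R' R B A] (φ : ℬ →+*ᵍ 𝒜) (hφA : ∀ b : B, φ b = algebraMap B A b)
  (hφ : HomogeneousIdeal.irrelevant 𝒜 ≤ (HomogeneousIdeal.irrelevant ℬ).map φ)

include hφA in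
theorem isPushout_base : IsPushout (CommRingCat.ofHom (algebraMap R' R))
    (CommRingCat.ofHom (algebraMap R' B)) (CommRingCat.ofHom (algebraMap R A))
    (CommRingCat.ofHom (φ : B →+* A)) := by
  have h : (φ : B →+* A) = algebraMap B A := RingHom.ext hφA
  rw [h]
  exact CommRingCat.isPushout_of_isPushout R' R B A

include hφA in
theorem isPullback_map : IsPullback (Proj.map φ hφ)
    (Proj.toSpecZero 𝒜 ≫ Spec.map (CommRingCat.ofHom (algebraMap R (𝒜 0))))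
    (Proj.toSpecZero ℬ ≫ Spec.map (CommRingCat.ofHom (algebraMap R' (ℬ 0))))
    (Spec.map (CommRingCat.ofHom (algebraMap R' R))) := by
  let I := Σ' (d : ℕ) (_ : 0 < d) (f : B), f ∈ ℬ d
  have key : ∀ i : I, IsPullback (Spec.map (CommRingCat.ofHom (Away.map φ i.2.2.1)))
      (Spec.map (CommRingCat.ofHom
        (ProjBC35.baseToAway (algebraMap R A) (algebraMap_mem_zero 𝒜) (φ i.2.2.1))))
      (Spec.map (CommRingCat.ofHom
        (ProjBC35.baseToAway (algebraMap R' B) (algebraMap_mem_zero ℬ) i.2.2.1)))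
      (Spec.map (CommRingCat.ofHom (algebraMap R' R))) := fun i =>
    (isPullback_SpecMap_of_isPushout _ _ _ _
      (ProjBC35.isPushout_away (algebraMap R' R) (algebraMap R' B) (algebraMap_mem_zero ℬ)
        (algebraMap R A) (algebraMap_mem_zero 𝒜) φ i.2.2.2 (isPushout_base ℬ 𝒜 φ hφA))).flip
  have hcov := iSup_opensRange_awayι ℬ
  refine isPullback_of_cover ?_ (fun i : I => Spec (CommRingCat.of (Away ℬ i.2.2.1)))
    (fun i : I => Spec (CommRingCat.of (Away 𝒜 (φ i.2.2.1))))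
    (fun i : I => Proj.awayι ℬ i.2.2.1 i.2.2.2 i.2.1) hcov
    (fun i : I => Proj.awayι 𝒜 (φ i.2.2.1) (φ.2 i.2.2.2) i.2.1)
    (fun i : I => Spec.map (CommRingCat.ofHom (Away.map φ i.2.2.1))) (fun i => ?_) fun i => ?_
  · refine (Proj.mapAffineOpenCover φ hφ).openCover.hom_ext _ _ fun s => ?_
    let i : I := ⟨s.1, s.1.2, s.2, s.2.2⟩
    show Proj.awayι 𝒜 (φ i.2.2.1) (φ.2 i.2.2.2) i.2.1 ≫ _ = Proj.awayι 𝒜 (φ i.2.2.1) (φ.2 i.2.2.2) i.2.1 ≫ _
    rw [Proj.awayι_comp_map_assoc φ hφ i.2.1 _ i.2.2.2, awayι_comp_base ℬ]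
    exact (key i).w.trans ((congrArg (· ≫ _) (awayι_comp_base 𝒜 (φ.2 i.2.2.2) i.2.1).symm).trans
      (Category.assoc _ _ _))
  · refine (IsOpenImmersion.isPullback _ (Proj.awayι 𝒜 (φ i.2.2.1) (φ.2 i.2.2.2) i.2.1)
      (Proj.awayι ℬ i.2.2.1 i.2.2.2 i.2.1) (Proj.map φ hφ)
      (Proj.awayι_comp_map φ hφ i.2.1 _ i.2.2.2) ?_).flip
    rw [Proj.opensRange_awayι, Proj.opensRange_awayι, Proj.map_preimage_basicOpen]
  · rw [awayι_comp_base 𝒜, awayι_comp_base ℬ]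
    exact key i

end Groth.Agent.Cone34
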