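import Groth.Agent.Cone34.Pullback
import Mathlib.AlgebraicGeometry.ResidueField
import Mathlib.AlgebraicGeometry.Morphisms.FiniteType

/-!
# Fibres and finite type from affine charts
-/

set_option autoImplicit false
set_option linter.style.haveILetI false

universe u

open CategoryTheory CategoryTheory.Limits AlgebraicGeometry TopologicalSpace

namespace Groth.Agent.Cone34

instance instLocalTargetLFT : IsZariskiLocalAtTarget @LocallyOfFiniteType.{u} :=
  HasRingHomProperty.instIsZariskiLocalAtTarget _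

/-- Finite type from charts over an open cover of the target. -/
theorem locallyOfFiniteType_of_charts {E P : Scheme.{u}} (π : E ⟶ P) {ι : Type*}
    (A B : ι → CommRingCat.{u}) (a : ∀ i, Spec (A i) ⟶ P) [∀ i, IsOpenImmersion (a i)]
    (hcov : ⨆ i, (a i).opensRange = ⊤) (φ : ∀ i, A i ⟶ B i) (b : ∀ i, Spec (B i) ⟶ E)
    (sq : ∀ i, IsPullback (b i) (Spec.map (φ i)) π (a i)) (hφ : ∀ i, (φ i).hom.FiniteType) :
    LocallyOfFiniteType π := by
  refine (IsZariskiLocalAtTarget.iff_of_iSup_eq_top (P := @LocallyOfFiniteType.{u}) _ hcov).2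
    fun i => ?_
  rw [MorphismProperty.arrow_mk_iso_iff @LocallyOfFiniteType.{u}
      (morphismRestrictOpensRange π (a i)),
    ← MorphismProperty.cancel_left_of_respectsIso @LocallyOfFiniteType.{u}
      (sq i).isoPullback.hom,
    IsPullback.isoPullback_hom_snd]
  exact (HasRingHomProperty.Spec_iff (P := @LocallyOfFiniteType.{u})).2 (hφ i)

/-- The fibre over a point in an affine chart. -/
theorem exists_fibre_iso {E P : Scheme.{u}} (π : E ⟶ P) {A B : CommRingCat.{u}} (φ : A ⟶ B)
    (a : Spec A ⟶ P) [IsOpenImmersion a] (b : Spec B ⟶ E) (sq : IsPullback b (Spec.map φ) π a)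
    (x : P) (hx : x ∈ a.opensRange) {Q : CommRingCat.{u}} (c : P.residueField x ⟶ Q)
    (hpo : ∀ χ : A ⟶ P.residueField x, ∃ ξ : B ⟶ Q, IsPushout χ φ c ξ) :
    ∃ e : pullback π (P.fromSpecResidueField x) ≅ Spec Q,
      e.hom ≫ Spec.map c = pullback.snd π (P.fromSpecResidueField x) := by
  let g : Spec (P.residueField x) ⟶ Spec A :=
    IsOpenImmersion.lift a (P.fromSpecResidueField x) (by
      rw [Scheme.range_fromSpecResidueField]
      exact Set.singleton_subset_iff.2 hx)
  obtain ⟨ξ, hξ⟩ := hpo (Spec.preimage g)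
  have h := (isPullback_SpecMap_of_isPushout _ _ _ _ hξ).flip.paste_horiz sq
  rw [Spec.map_preimage, IsOpenImmersion.lift_fac] at h
  exact ⟨h.isoPullback.symm, h.isoPullback_inv_snd⟩

end Groth.Agent.Cone34
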