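import Groth.Agent.ConeX.Pointed
import Mathlib.AlgebraicGeometry.ProjectiveSpectrum.Functor
import Mathlib.Algebra.Polynomial.AlgebraMap

/-!
# The section at infinity of a projective cone
-/

set_option autoImplicit false
set_option linter.style.haveILetI false

universe u

open CategoryTheory CategoryTheory.Limits AlgebraicGeometry TopologicalSpace
open scoped HomogeneousIdeal

namespace Groth.Agent.Cone34

variable {R A : Type u} [CommRing R] [CommRing A] [Algebra R A] (𝒜 : ℕ → Submodule R A) [GradedAlgebra 𝒜]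
  {B : Type u} [CommRing B] [Algebra R B] (ℬ : ℕ → Submodule R B) [GradedAlgebra ℬ]
  [Algebra A B] [IsScalarTower R A B] (φ : 𝒜 →+*ᵍ ℬ) (hφ : ∀ a : A, φ a = algebraMap A B a)
  (z : B) (hz : z ∈ ℬ 1) (hhat : Function.Bijective (Polynomial.aeval (R := A) z))
  (ψ : ℬ →+*ᵍ 𝒜) (hψφ : ∀ a : A, ψ (φ a) = a) (hψz : ψ z = 0)

include hφ hhat hψφ hψz in
theorem exists_eq_mul_add (b : B) : ∃ c, b = z * c + φ (ψ b) := by
  obtain ⟨P, rfl⟩ := hhat.2 b
  have h : Polynomial.aeval z P = z * Polynomial.aeval z P.divX + φ (P.coeff 0) := by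
    conv_lhs => rw [← Polynomial.X_mul_divX_add P]
    rw [map_add, map_mul, Polynomial.aeval_X, Polynomial.aeval_C, hφ]
  refine ⟨Polynomial.aeval z P.divX, h.trans (congrArg _ (congrArg φ ?_))⟩
  rw [h, map_add, map_mul, hψz, zero_mul, zero_add, hψφ]

include hφ hhat hψφ in
theorem range_map_eq (hψz : ψ z = 0)
    (hψ : HomogeneousIdeal.irrelevant 𝒜 ≤ (HomogeneousIdeal.irrelevant ℬ).map ψ) :
    Set.range (Proj.map ψ hψ).base = ((Proj.basicOpen ℬ z : Set (Proj ℬ)))ᶜ := by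
  ext q
  constructor
  · rintro ⟨x, rfl⟩ hx
    refine hx ?_
    show z ∈ ((Proj.map ψ hψ).base x).asHomogeneousIdeal
    show ψ z ∈ x.asHomogeneousIdeal
    rw [hψz]
    exact zero_mem _
  · intro hq
    have hzq : z ∈ q.asHomogeneousIdeal := not_not.1 hq
    have hmem : ∀ b, b ∈ q.asHomogeneousIdeal ↔ φ (ψ b) ∈ q.asHomogeneousIdeal := fun b => by
      obtain ⟨c, hc⟩ := exists_eq_mul_add 𝒜 ℬ φ hφ z hhat ψ hψφ hψz b
      conv_lhs => rw [hc]
      exact Ideal.add_mem_iff_right q.asHomogeneousIdeal.toIdeal (Ideal.mul_mem_right _ _ hzq)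
    have hirr : ¬ (𝒜₊) ≤ q.asHomogeneousIdeal.comap φ := fun hle => by
      refine q.not_irrelevant_le fun b hb => (hmem b).2 ?_
      exact hle (ConeX.map_mem_irrelevant ψ hb)
    let p : ProjectiveSpectrum 𝒜 := ⟨q.asHomogeneousIdeal.comap φ, q.isPrime.comap _, hirr⟩
    refine ⟨p, ProjectiveSpectrum.ext (HomogeneousIdeal.ext (Ideal.ext fun b => ?_))⟩
    show φ (ψ b) ∈ q.asHomogeneousIdeal ↔ _
    exact (hmem b).symm

end Groth.Agent.Cone34
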