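import Groth.Agent.ProjBC35.AwayPushout
import Mathlib.Algebra.Polynomial.Laurent
import Mathlib.RingTheory.FiniteType

/-!
# A localization at a degree one element is a Laurent ring over its degree zero part
-/

set_option autoImplicit false
set_option linter.style.haveILetI false

universe u

open LaurentPolynomial HomogeneousLocalization CategoryTheory

namespace Groth.Agent.Cone34

variable {A σ : Type u} [CommRing A] [SetLike σ A] [AddSubgroupClass σ A] {𝒜 : ℕ → σ} [GradedRing 𝒜]
  {f : A}

/-- `f / 1`. -/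
noncomputable def fUnit (f : A) : (Localization.Away f)ˣ :=
  (IsLocalization.Away.algebraMap_isUnit (S := Localization.Away f) f).unit

theorem fUnit_val (f : A) : (fUnit f : Localization.Away f) = algebraMap A _ f := IsUnit.unit_spec _

/-- `A_(f)[T,T⁻¹] → A_f`. -/
noncomputable def laurentToLoc (𝒜 : ℕ → σ) [GradedRing 𝒜] (f : A) :
    (Away 𝒜 f)[T;T⁻¹] →+* Localization.Away f :=
  LaurentPolynomial.eval₂ (algebraMap (Away 𝒜 f) (Localization.Away f)) (fUnit f)

theorem mk_mul_fUnit_zpow (a : A) (n : ℕ) (k : ℤ) (p q : ℕ) (hk : k = p - q) :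
    Localization.mk a (⟨f ^ n, n, rfl⟩ : Submonoid.powers f) * ((fUnit f ^ k : (Localization.Away f)ˣ) : Localization.Away f) =
      Localization.mk (a * f ^ p) (⟨f ^ (n + q), n + q, rfl⟩ : Submonoid.powers f) := by
  have hu : ((fUnit f ^ k : (Localization.Away f)ˣ) : Localization.Away f) *
      algebraMap A _ (f ^ q) = algebraMap A _ (f ^ p) := by
    rw [map_pow, map_pow, ← fUnit_val, ← Units.val_pow_eq_pow_val, ← Units.val_pow_eq_pow_val,
      ← Units.val_mul, ← zpow_natCast, ← zpow_natCast, ← zpow_add, hk, sub_add_cancel]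
  rw [Localization.mk_eq_mk', IsLocalization.eq_mk'_iff_mul_eq]
  show _ * algebraMap A _ (f ^ (n + q)) = _
  rw [pow_add, map_mul, mul_mul_mul_comm, hu, map_mul]
  congr 1
  exact IsLocalization.mk'_spec (Localization.Away f) a (⟨f ^ n, n, rfl⟩ : Submonoid.powers f)

theorem bijective_laurentToLoc (hf : f ∈ 𝒜 1) : Function.Bijective (laurentToLoc 𝒜 f) := by
  classical
  have hsingle : ∀ (k : ℤ) (c : Away 𝒜 f),
      laurentToLoc 𝒜 f (C c * T k) = c.val * ((fUnit f ^ k : (Localization.Away f)ˣ) : Localization.Away f) :=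
    fun k c => by
      rw [laurentToLoc, eval₂_C_mul_T, HomogeneousLocalization.algebraMap_apply]
  refine ⟨(injective_iff_map_eq_zero _).2 fun P hP => LaurentPolynomial.ext fun m => ?_, fun x => ?_⟩
  · have key : ∀ P : (Away 𝒜 f)[T;T⁻¹],
        ProjBC35.retraction hf (laurentToLoc 𝒜 f P *
          ((fUnit f ^ (-m) : (Localization.Away f)ˣ) : Localization.Away f)) = P.coeff m := by
      intro P
      induction P using LaurentPolynomial.induction_on' with
      | add p q hp hq => rw [map_add, add_mul, map_add, hp, hq]; simp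
      | C_mul_T k c =>
        rw [hsingle, mul_assoc, ← Units.val_mul, ← zpow_add, ← single_eq_C_mul_T,
          AddMonoidAlgebra.coeff_single, Finsupp.single_apply]
        obtain ⟨n, a, ha, rfl⟩ := c.mk_surjective 𝒜 hf
        split_ifs with h
        · subst h
          rw [add_neg_cancel, zpow_zero, Units.val_one, mul_one, ProjBC35.retraction_val]
        · obtain ⟨p, q, hpq⟩ : ∃ p q : ℕ, k + -m = p - q :=
            ⟨(k + -m).toNat, (-(k + -m)).toNat, by omega⟩
          rw [Away.val_mk, mk_mul_fUnit_zpow a n _ p q hpq, ProjBC35.retraction_mk]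
          apply val_injective
          show Localization.mk (GradedRing.proj 𝒜 ((n + q) • 1) (a * f ^ p)) (⟨f ^ (n + q), n + q, rfl⟩ : Submonoid.powers f) = _
          rw [HomogeneousLocalization.val_zero]
          have h0 : GradedRing.proj 𝒜 ((n + q) • 1) (a * f ^ p) = 0 := by
            rw [GradedRing.proj_apply]
            exact DirectSum.decompose_of_mem_ne 𝒜
              (SetLike.mul_mem_graded ha (SetLike.pow_mem_graded p hf)) (by simp; omega)
          rw [h0, Localization.mk_zero]
    rw [← key P, hP, zero_mul, map_zero]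
    simp
  · induction x using Localization.induction_on with | H x => ?_
    obtain ⟨a, _, n, rfl⟩ := x
    show Localization.mk a (⟨f ^ n, n, rfl⟩ : Submonoid.powers f) ∈ (laurentToLoc 𝒜 f).range
    rw [← DirectSum.sum_support_decompose 𝒜 a, ← Localization.mkAddMonoidHom_apply, map_sum]
    refine Subring.sum_mem _ fun i _ => ?_
    let c : Away 𝒜 f := Away.mk 𝒜 hf i ((DirectSum.decompose 𝒜 a i : A)) (by simp)
    refine ⟨C c * T ((i : ℤ) - n), ?_⟩
    rw [hsingle, Away.val_mk, Localization.mkAddMonoidHom_apply, mk_mul_fUnit_zpow _ i _ i n rfl,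
      Localization.mk_eq_mk_iff, Localization.r_iff_exists]
    exact ⟨1, by simp [pow_add]; ring⟩

/-- The Laurent ring description. -/
noncomputable def laurentEquiv (hf : f ∈ 𝒜 1) : (Away 𝒜 f)[T;T⁻¹] ≃+* Localization.Away f :=
  RingEquiv.ofBijective _ (bijective_laurentToLoc hf)

theorem algebraMap_finiteType (hf : f ∈ 𝒜 1) :
    (algebraMap (Away 𝒜 f) (Localization.Away f)).FiniteType := by
  have h : algebraMap (Away 𝒜 f) (Localization.Away f) =
      (laurentToLoc 𝒜 f).comp (C : Away 𝒜 f →+* (Away 𝒜 f)[T;T⁻¹]) :=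
    RingHom.ext fun c => (eval₂_C _ _ c).symm
  rw [h, show (C : Away 𝒜 f →+* (Away 𝒜 f)[T;T⁻¹]) = algebraMap _ _ from
    RingHom.ext fun _ => LaurentPolynomial.C_eq_algebraMap _]
  exact RingHom.FiniteType.comp (RingHom.FiniteType.of_surjective _ (bijective_laurentToLoc hf).2)
    (RingHom.finiteType_algebraMap.2 inferInstance)

theorem unit_T_zpow {K : Type u} [CommRing K] (k : ℤ) :
    ((((isUnit_T 1).unit : (K[T;T⁻¹])ˣ) ^ k : (K[T;T⁻¹])ˣ) : K[T;T⁻¹]) = T k := by
  induction k using Int.induction_on with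
  | zero => simp
  | succ i hi => rw [zpow_add_one, Units.val_mul, hi, IsUnit.unit_spec, ← T_add]
  | pred i hi =>
    rw [zpow_sub_one, Units.val_mul, hi, T_sub]
    congr 1
    exact Units.inv_eq_of_mul_eq_one_right (by rw [IsUnit.unit_spec, ← T_add]; simp)

/-- Base change of the Laurent ring. -/
theorem isPushout_laurent (hf : f ∈ 𝒜 1) {K : Type u} [CommRing K] (χ : Away 𝒜 f →+* K)
    (ξ : Localization.Away f →+* K[T;T⁻¹])
    (hC : ∀ c, ξ (algebraMap (Away 𝒜 f) _ c) = C (χ c)) (hT : ξ (fUnit f) = T 1) :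
    IsPushout (CommRingCat.ofHom χ) (CommRingCat.ofHom (algebraMap (Away 𝒜 f) (Localization.Away f)))
      (CommRingCat.ofHom (C : K →+* K[T;T⁻¹])) (CommRingCat.ofHom ξ) := by
  have w : CommRingCat.ofHom χ ≫ CommRingCat.ofHom (C : K →+* K[T;T⁻¹]) =
      CommRingCat.ofHom (algebraMap (Away 𝒜 f) (Localization.Away f)) ≫ CommRingCat.ofHom ξ :=
    CommRingCat.hom_ext (RingHom.ext fun c => (hC c).symm)
  refine ⟨⟨w⟩, ⟨Limits.PushoutCocone.IsColimit.mk w (fun s => CommRingCat.ofHom
    (eval₂ s.inl.hom (Units.map s.inr.hom.toMonoidHom (fUnit f)))) (fun s => ?_) (fun s => ?_)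
    fun s m h₁ h₂ => ?_⟩⟩
  · exact CommRingCat.hom_ext (RingHom.ext fun c => eval₂_C _ _ c)
  · refine CommRingCat.hom_ext (RingHom.ext fun x => ?_)
    obtain ⟨P, rfl⟩ := (bijective_laurentToLoc hf).2 x
    show eval₂ _ _ (ξ (laurentToLoc 𝒜 f P)) = s.inr.hom (laurentToLoc 𝒜 f P)
    induction P using LaurentPolynomial.induction_on' with
    | add p q hp hq => simp only [map_add, hp, hq]
    | C_mul_T k c =>
      have hu : Units.map ξ.toMonoidHom (fUnit f) = ((isUnit_T 1).unit : (K[T;T⁻¹])ˣ) :=
        Units.ext (by simpa using hT)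
      have hξ : ξ ((fUnit f ^ k : (Localization.Away f)ˣ) : Localization.Away f) = T k := by
        show ((Units.map ξ.toMonoidHom (fUnit f ^ k) : (K[T;T⁻¹])ˣ) : K[T;T⁻¹]) = T k
        rw [map_zpow, hu, unit_T_zpow]
      rw [laurentToLoc, eval₂_C_mul_T, map_mul, map_mul, hC, eval₂_C, hξ, eval₂_T, map_mul]
      refine congrArg₂ (· * ·) (CategoryTheory.congr_fun s.condition c) ?_
      rw [← map_zpow]
      rfl
  · refine CommRingCat.hom_ext (RingHom.ext fun x => ?_)
    induction x using LaurentPolynomial.induction_on' with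
    | add p q hp hq => simp only [map_add, hp, hq]
    | C_mul_T k c =>
      refine (map_mul m.hom (C c) (T k)).trans (Eq.trans ?_
        (map_mul (eval₂ s.inl.hom (Units.map s.inr.hom.toMonoidHom (fUnit f))) (C c) (T k)).symm)
      refine congrArg₂ (· * ·) ?_ ?_
      · exact (CategoryTheory.congr_fun h₁ c).trans (eval₂_C _ _ c).symm
      · have e1 : m.hom (T 1) = s.inr.hom (fUnit f) := by
          rw [← hT]; exact CategoryTheory.congr_fun h₂ _
        have e2 : Units.map m.hom.toMonoidHom (isUnit_T 1).unit =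
            Units.map s.inr.hom.toMonoidHom (fUnit f) :=
          Units.ext (by simpa [IsUnit.unit_spec] using e1)
        show m.hom (T k) = eval₂ _ _ (T k)
        rw [eval₂_T, ← e2, ← map_zpow]
        show m.hom (T k) = m.hom _
        rw [unit_T_zpow]

end Groth.Agent.Cone34
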