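import Groth.Agent.Cone34.Retraction
import Groth.Agent.Cone34.Laurent
import Groth.Agent.Cone34.FibreLocal
import Mathlib.AlgebraicGeometry.ResidueField
import Mathlib.AlgebraicGeometry.Morphisms.FiniteType

/-!
# Fibres of the retraction of the pointed affine cone
-/

set_option autoImplicit false
set_option linter.style.haveILetI false

universe u

open CategoryTheory CategoryTheory.Limits AlgebraicGeometry TopologicalSpace
open HomogeneousLocalization
open scoped HomogeneousIdeal LaurentPolynomial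

namespace Groth.Agent.Cone34

variable {R A : Type u} [CommRing R] [CommRing A] [Algebra R A] (𝒜 : ℕ → Submodule R A) [GradedAlgebra 𝒜]

theorem exists_degree_one (hgen : (HomogeneousIdeal.irrelevant 𝒜).toIdeal = Ideal.span (𝒜 1 : Set A))
    (x : Proj 𝒜) : ∃ (f : A) (hf : f ∈ 𝒜 1), x ∈ (Proj.awayι 𝒜 f hf Nat.one_pos).opensRange := by
  obtain ⟨f, hf⟩ := Opens.mem_iSup.1
    (show x ∈ ⨆ f : 𝒜 1, Proj.basicOpen 𝒜 (f : A) by
      rw [Proj.iSup_basicOpen_eq_top 𝒜 (fun f : 𝒜 1 => (f : A)) (by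
        rw [hgen, Subtype.range_coe_subtype]
        exact Ideal.span_mono fun a ha => ha)]
      trivial)
  exact ⟨f, f.2, by rw [Proj.opensRange_awayι]; exact hf⟩

theorem chart_ι {d : ℕ} {f : A} (hf : f ∈ 𝒜 d) (hd : 0 < d) :
    Cone.chart hf hd ≫ (Cone.pointed 𝒜).ι =
      Spec.map (CommRingCat.ofHom (algebraMap A (Localization.Away f))) :=
  IsOpenImmersion.lift_fac _ _ _

theorem isOpenImmersion_chart {d : ℕ} {f : A} (hf : f ∈ 𝒜 d) (hd : 0 < d) :
    IsOpenImmersion (Cone.chart hf hd) := by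
  haveI : IsOpenImmersion (Spec.map (CommRingCat.ofHom (algebraMap A (Localization.Away f)))) :=
    IsOpenImmersion.of_isLocalization f
  unfold Cone.chart
  infer_instance

variable (π : (Cone.pointed 𝒜 : Scheme.{u}) ⟶ Proj 𝒜)
  (hπ : ∀ (d : ℕ) (f : A) (hd : 0 < d) (hf : f ∈ 𝒜 d),
      Cone.chart hf hd ≫ π =
        Spec.map (CommRingCat.ofHom (algebraMap (HomogeneousLocalization.Away 𝒜 f) (Localization.Away f))) ≫
          Proj.awayι 𝒜 f hf hd)

include hπ in
theorem isPullback_chart {d : ℕ} {f : A} (hf : f ∈ 𝒜 d) (hd : 0 < d) :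
    IsPullback (Cone.chart hf hd)
      (Spec.map (CommRingCat.ofHom (algebraMap (Away 𝒜 f) (Localization.Away f)))) π
      (Proj.awayι 𝒜 f hf hd) := by
  haveI := isOpenImmersion_chart 𝒜 hf hd
  refine (IsOpenImmersion.isPullback _ (Cone.chart hf hd) (Proj.awayι 𝒜 f hf hd) π
    (hπ d f hd hf) ?_).flip
  rw [Proj.opensRange_awayι, preimage_basicOpen 𝒜 π hπ hf]
  ext p
  refine ⟨fun h => ?_, ?_⟩
  · obtain ⟨q, hq, -⟩ := exists_chart_eq 𝒜 p hd hf h
    exact ⟨q, hq⟩
  · rintro ⟨q, rfl⟩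
    show (Cone.pointed 𝒜).ι.base ((Cone.chart hf hd).base q) ∈ PrimeSpectrum.basicOpen f
    rw [← Scheme.Hom.comp_apply, chart_ι]
    exact (PrimeSpectrum.localization_away_comap_range (Localization.Away f) f).le ⟨q, rfl⟩

theorem exists_isPushout_laurent {f : A} (hf : f ∈ 𝒜 1) {K : Type u} [CommRing K]
    (χ : Away 𝒜 f →+* K) :
    ∃ ξ : CommRingCat.of (Localization.Away f) ⟶ CommRingCat.of K[T;T⁻¹],
      IsPushout (CommRingCat.ofHom χ)
        (CommRingCat.ofHom (algebraMap (Away 𝒜 f) (Localization.Away f)))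
        (CommRingCat.ofHom (algebraMap K K[T;T⁻¹])) ξ := by
  obtain ⟨φ, hφ⟩ : ∃ φ : (Away 𝒜 f)[T;T⁻¹] →+* K[T;T⁻¹], φ = LaurentPolynomial.eval₂
      ((LaurentPolynomial.C : K →+* K[T;T⁻¹]).comp χ) (LaurentPolynomial.isUnit_T 1).unit :=
    ⟨_, rfl⟩
  have hφC : ∀ c, φ (LaurentPolynomial.C c) = LaurentPolynomial.C (χ c) := fun c => by
    rw [hφ, LaurentPolynomial.eval₂_C, RingHom.comp_apply]
  have hφT : φ (LaurentPolynomial.T 1) = LaurentPolynomial.T 1 := by
    rw [hφ, LaurentPolynomial.eval₂_T, zpow_one, IsUnit.unit_spec]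
  clear hφ
  obtain ⟨e, he⟩ : ∃ e : Localization.Away f →+* (Away 𝒜 f)[T;T⁻¹],
      ∀ P, e (laurentToLoc 𝒜 f P) = P :=
    ⟨(laurentEquiv hf).symm.toRingHom, fun P => (laurentEquiv hf).symm_apply_apply P⟩
  let ξ : Localization.Away f →+* K[T;T⁻¹] := φ.comp e
  have hξ : ∀ P, ξ (laurentToLoc 𝒜 f P) = φ P := fun P => congrArg φ (he P)
  have hC : ∀ c, ξ (algebraMap (Away 𝒜 f) _ c) = LaurentPolynomial.C (χ c) := fun c => by
    rw [show algebraMap (Away 𝒜 f) (Localization.Away f) c =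
      laurentToLoc 𝒜 f (LaurentPolynomial.C c) from (LaurentPolynomial.eval₂_C _ _ c).symm, hξ, hφC]
  have hT : ξ (fUnit f) = LaurentPolynomial.T 1 := by
    rw [show ((fUnit f : (Localization.Away f)ˣ) : Localization.Away f) =
      laurentToLoc 𝒜 f (LaurentPolynomial.T 1) by rw [laurentToLoc, LaurentPolynomial.eval₂_T, zpow_one],
      hξ, hφT]
  refine ⟨CommRingCat.ofHom ξ, ?_⟩
  rw [show algebraMap K K[T;T⁻¹] = LaurentPolynomial.C from
    RingHom.ext fun r => (LaurentPolynomial.C_eq_algebraMap r).symm]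
  exact isPushout_laurent hf χ ξ hC hT

include hπ in
theorem pointed_finiteType_fibre
    (hgen : (HomogeneousIdeal.irrelevant 𝒜).toIdeal = Ideal.span (𝒜 1 : Set A)) (x : Proj 𝒜) :
    LocallyOfFiniteType π ∧ QuasiCompact π ∧
      ∃ e : pullback π ((Proj 𝒜).fromSpecResidueField x) ≅
          Spec (CommRingCat.of (LaurentPolynomial ((Proj 𝒜).residueField x))),
        e.hom ≫ Spec.map (CommRingCat.ofHom (algebraMap ((Proj 𝒜).residueField x)
          (LaurentPolynomial ((Proj 𝒜).residueField x)))) = pullback.snd π ((Proj 𝒜).fromSpecResidueField x) := by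
  haveI := isAffineHom_retraction 𝒜 π hπ
  refine ⟨?_, inferInstance, ?_⟩
  · refine locallyOfFiniteType_of_charts π
      (fun f : 𝒜 1 => CommRingCat.of (Away 𝒜 (f : A)))
      (fun f : 𝒜 1 => CommRingCat.of (Localization.Away (f : A)))
      (fun f => Proj.awayι 𝒜 (f : A) f.2 Nat.one_pos) ?_
      (fun f => CommRingCat.ofHom (algebraMap (Away 𝒜 (f : A)) (Localization.Away (f : A))))
      (fun f => Cone.chart f.2 Nat.one_pos) (fun f => isPullback_chart 𝒜 π hπ f.2 Nat.one_pos)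
      fun f => algebraMap_finiteType f.2
    refine eq_top_iff.2 fun y _ => ?_
    obtain ⟨f, hf, hy⟩ := exists_degree_one 𝒜 hgen y
    exact Opens.mem_iSup.2 ⟨⟨f, hf⟩, hy⟩
  obtain ⟨f, hf, hx⟩ := exists_degree_one 𝒜 hgen x
  refine exists_fibre_iso π _ (Proj.awayι 𝒜 f hf Nat.one_pos) (Cone.chart hf Nat.one_pos)
    (isPullback_chart 𝒜 π hπ hf Nat.one_pos) x hx _ fun χ => ?_
  obtain ⟨ξ, hξ⟩ := exists_isPushout_laurent 𝒜 hf χ.hom
  exact ⟨ξ, hξ⟩

end Groth.Agent.Cone34
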