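import Mathlib.RingTheory.GradedAlgebra.HomogeneousLocalization
import Mathlib.Algebra.Polynomial.AlgebraMap
import Mathlib.RingTheory.FiniteType
import Mathlib.Algebra.Category.Ring.Constructions

/-!
# The affine pieces of a pointed projective cone are affine lines
-/

set_option autoImplicit false
set_option linter.style.haveILetI false

universe u

open HomogeneousLocalization CategoryTheory Polynomial

namespace Groth.Agent.Cone34

variable {R A : Type u} [CommRing R] [CommRing A] [Algebra R A] {𝒜 : ℕ → Submodule R A} [GradedAlgebra 𝒜]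
  {B : Type u} [CommRing B] [Algebra R B] {ℬ : ℕ → Submodule R B} [GradedAlgebra ℬ]
  [Algebra A B] (φ : 𝒜 →+*ᵍ ℬ) {z : B} {f : A}

/-- `z / f`. -/
noncomputable def zFrac (hf : f ∈ 𝒜 1) (hz : z ∈ ℬ 1) : Away ℬ (φ f) :=
  Away.mk ℬ (φ.2 hf) 1 z (by simpa using hz)

/-- `A_(f)[X] → B_(f)`. -/
noncomputable def polyToAway (hf : f ∈ 𝒜 1) (hz : z ∈ ℬ 1) :
    (Away 𝒜 f)[X] →+* Away ℬ (φ f) :=
  Polynomial.eval₂RingHom (Away.map φ f) (zFrac φ hf hz)

variable (hφ : ∀ a : A, φ a = algebraMap A B a) (hhat : Function.Bijective (Polynomial.aeval (R := A) z))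

include hφ hhat in
theorem bijective_polyToAway (hf : f ∈ 𝒜 1) (hz : z ∈ ℬ 1) :
    Function.Bijective (polyToAway φ hf hz) := by
  classical
  refine ⟨?_, fun x => ?_⟩
  · let e : B ≃+* A[X] := (AlgEquiv.ofBijective _ hhat).symm.toRingEquiv
    let L := Localization.Away f
    let θ₀ : B →+* L[X] := (Polynomial.eval₂RingHom (Polynomial.C.comp (algebraMap A L))
      (Polynomial.C (algebraMap A L f) * Polynomial.X)).comp e.toRingHom
    have heC : ∀ a, e (φ a) = Polynomial.C a := fun a => by
      show (AlgEquiv.ofBijective _ hhat).symm (φ a) = _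
      rw [AlgEquiv.symm_apply_eq, hφ]
      exact (Polynomial.aeval_C z a).symm
    have heX : e z = Polynomial.X := by
      show (AlgEquiv.ofBijective _ hhat).symm z = _
      rw [AlgEquiv.symm_apply_eq]
      exact (Polynomial.aeval_X z).symm
    have hθC : ∀ a, θ₀ (φ a) = Polynomial.C (algebraMap A L a) := fun a => by
      show Polynomial.eval₂RingHom _ _ (e (φ a)) = _
      rw [heC, Polynomial.coe_eval₂RingHom, Polynomial.eval₂_C]; rfl
    have hθX : θ₀ z = Polynomial.C (algebraMap A L f) * Polynomial.X := by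
      show Polynomial.eval₂RingHom _ _ (e z) = _
      rw [heX, Polynomial.coe_eval₂RingHom, Polynomial.eval₂_X]
    have hu : IsUnit (θ₀ (φ f)) := by
      rw [hθC]
      exact (IsLocalization.Away.algebraMap_isUnit f).map Polynomial.C
    let θ : Localization.Away (φ f) →+* L[X] := IsLocalization.Away.lift (φ f) hu
    have hθmk : ∀ (n : ℕ) (b : B), θ (Localization.mk b (⟨φ f ^ n, n, rfl⟩ : Submonoid.powers (φ f))) *
        Polynomial.C (algebraMap A L f) ^ n = θ₀ b := fun n b => by
      have h : θ (IsLocalization.mk' (Localization.Away (φ f)) b (⟨φ f ^ n, n, rfl⟩ : Submonoid.powers (φ f))) *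
          θ (algebraMap B _ (φ f ^ n)) = θ (algebraMap B _ b) := by
        rw [← map_mul]
        exact congrArg θ (IsLocalization.mk'_spec (Localization.Away (φ f)) b
          (⟨φ f ^ n, n, rfl⟩ : Submonoid.powers (φ f)))
      rw [show θ (algebraMap B _ (φ f ^ n)) = θ₀ (φ f ^ n) from IsLocalization.Away.lift_eq _ hu _,
        show θ (algebraMap B _ b) = θ₀ b from IsLocalization.Away.lift_eq _ hu _, map_pow, hθC] at h
      rw [Localization.mk_eq_mk']
      exact h
    have key : (θ.comp (algebraMap (Away ℬ (φ f)) (Localization.Away (φ f)))).comp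
        (polyToAway φ hf hz) = Polynomial.mapRingHom (algebraMap (Away 𝒜 f) L) := by
      refine Polynomial.ringHom_ext (fun c => ?_) ?_
      · obtain ⟨n, a, ha, rfl⟩ := c.mk_surjective 𝒜 hf
        simp only [RingHom.comp_apply, polyToAway, Polynomial.coe_eval₂RingHom, Polynomial.eval₂_C,
          Polynomial.coe_mapRingHom, Polynomial.map_C, HomogeneousLocalization.algebraMap_apply]
        rw [Away.map_mk]
        refine (((IsLocalization.Away.algebraMap_isUnit (S := L) f).map Polynomial.C).pow n).mul_left_injective ?_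
        show θ (Localization.mk (φ a) (⟨φ f ^ n, n, rfl⟩ : Submonoid.powers (φ f))) * _ =
          Polynomial.C (Localization.mk a (⟨f ^ n, n, rfl⟩ : Submonoid.powers f)) *
            Polynomial.C (algebraMap A L f) ^ n
        rw [hθmk, hθC, ← map_pow, ← map_mul, ← map_pow, Localization.mk_eq_mk',
          IsLocalization.mk'_spec L a (⟨f ^ n, n, rfl⟩ : Submonoid.powers f)]
      · simp only [RingHom.comp_apply, polyToAway, Polynomial.coe_eval₂RingHom, Polynomial.eval₂_X,
          Polynomial.coe_mapRingHom, Polynomial.map_X, HomogeneousLocalization.algebraMap_apply, zFrac,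
          Away.val_mk]
        refine (((IsLocalization.Away.algebraMap_isUnit (S := L) f).map Polynomial.C).pow 1).mul_left_injective ?_
        show θ _ * _ = Polynomial.X * Polynomial.C (algebraMap A L f) ^ 1
        rw [hθmk, hθX, pow_one, mul_comm]
    intro p q h
    refine Polynomial.map_injective (algebraMap (Away 𝒜 f) L) (HomogeneousLocalization.val_injective _) ?_
    have h' := congrArg (θ.comp (algebraMap (Away ℬ (φ f)) (Localization.Away (φ f)))) h
    exact ((RingHom.congr_fun key p).symm.trans h').trans (RingHom.congr_fun key q)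
  · obtain ⟨n, b, hb, rfl⟩ := x.mk_surjective ℬ (φ.2 hf)
    obtain ⟨P, rfl⟩ := hhat.2 b
    let a : ℕ → A := fun i => GradedRing.proj 𝒜 (n - i) (P.coeff i)
    have ha : ∀ i, a i ∈ 𝒜 ((n - i) • 1) := fun i => by
      rw [smul_eq_mul, mul_one]
      exact (DirectSum.decompose 𝒜 (P.coeff i) (n - i)).2
    refine ⟨∑ i ∈ Finset.range (n + 1),
      Polynomial.C (Away.mk 𝒜 hf (n - i) (a i) (ha i)) * Polynomial.X ^ i, ?_⟩
    apply val_injective
    rw [map_sum, ← HomogeneousLocalization.algebraMap_apply, map_sum, Away.val_mk]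
    have hterm : ∀ i ∈ Finset.range (n + 1),
        algebraMap (Away ℬ (φ f)) (Localization.Away (φ f)) (polyToAway φ hf hz
          (Polynomial.C (Away.mk 𝒜 hf (n - i) (a i) (ha i)) * Polynomial.X ^ i)) =
        Localization.mk (φ (a i) * z ^ i) (⟨φ f ^ n, n, rfl⟩ : Submonoid.powers (φ f)) := fun i hi => by
      rw [polyToAway, Polynomial.coe_eval₂RingHom, Polynomial.eval₂_mul, Polynomial.eval₂_C,
        Polynomial.eval₂_X_pow, map_mul, map_pow, HomogeneousLocalization.algebraMap_apply,
        HomogeneousLocalization.algebraMap_apply, Away.map_mk]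
      show Localization.mk (φ (a i)) (⟨φ f ^ (n - i), n - i, rfl⟩ : Submonoid.powers (φ f)) *
        Localization.mk z (⟨φ f ^ 1, 1, rfl⟩ : Submonoid.powers (φ f)) ^ i = _
      rw [Localization.mk_pow, Localization.mk_mul]
      congr 1
      refine Subtype.ext ?_
      show φ f ^ (n - i) * (φ f ^ 1) ^ i = φ f ^ n
      rw [pow_one, ← pow_add, Nat.sub_add_cancel (Nat.lt_succ_iff.1 (Finset.mem_range.1 hi))]
    rw [Finset.sum_congr rfl hterm]
    simp only [← Localization.mkAddMonoidHom_apply, ← map_sum]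
    congr 1
    have hb' : Polynomial.aeval z P =
        GradedRing.proj ℬ n (Polynomial.aeval z P) := by
      rw [GradedRing.proj_apply, DirectSum.decompose_of_mem_same ℬ (by simpa using hb)]
    rw [hb']
    rw [Polynomial.aeval_eq_sum_range' (n := max (n + 1) (P.natDegree + 1)) (by omega), map_sum]
    rw [← Finset.sum_subset (Finset.range_mono (le_max_left (n + 1) (P.natDegree + 1)))]
    · refine Finset.sum_congr rfl fun i hi => ?_
      have hin : i ≤ n := Nat.lt_succ_iff.1 (Finset.mem_range.1 hi)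
      rw [Algebra.smul_def, ← hφ, GradedRing.proj_apply,
        DirectSum.coe_decompose_mul_of_right_mem_of_le ℬ (by simpa using SetLike.pow_mem_graded i hz) hin,
        ← φ.map_directSumDecompose]
      rfl
    · intro i _ hi
      rw [Algebra.smul_def, GradedRing.proj_apply,
        DirectSum.coe_decompose_mul_of_right_mem_of_not_le ℬ (by simpa using SetLike.pow_mem_graded i hz)
          (by simp at hi; omega)]

include hφ hhat in
theorem finiteType_map (hf : f ∈ 𝒜 1) (hz : z ∈ ℬ 1) :
    (Away.map φ f).FiniteType := by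
  have h : Away.map φ f = (polyToAway φ hf hz).comp Polynomial.C :=
    RingHom.ext fun c => (Polynomial.eval₂_C _ _).symm
  rw [h]
  exact RingHom.FiniteType.comp
    (RingHom.FiniteType.of_surjective _ (bijective_polyToAway φ hφ hhat hf hz).2)
    (RingHom.finiteType_algebraMap.2 (inferInstance : Algebra.FiniteType (Away 𝒜 f) (Away 𝒜 f)[X]))

include hφ hhat in
theorem exists_isPushout_poly (hf : f ∈ 𝒜 1) (hz : z ∈ ℬ 1) {K : Type u} [CommRing K]
    (χ : Away 𝒜 f →+* K) :
    ∃ ξ : CommRingCat.of (Away ℬ (φ f)) ⟶ CommRingCat.of K[X],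
      IsPushout (CommRingCat.ofHom χ) (CommRingCat.ofHom (Away.map φ f))
        (CommRingCat.ofHom (algebraMap K K[X])) ξ := by
  obtain ⟨e, he⟩ : ∃ e : Away ℬ (φ f) →+* (Away 𝒜 f)[X], ∀ P, e (polyToAway φ hf hz P) = P :=
    let E := RingEquiv.ofBijective _ (bijective_polyToAway φ hφ hhat hf hz)
    ⟨E.symm.toRingHom, fun P => E.symm_apply_apply P⟩
  let ξ : Away ℬ (φ f) →+* K[X] := (Polynomial.mapRingHom χ).comp e
  have hξ : ∀ P, ξ (polyToAway φ hf hz P) = Polynomial.map χ P := fun P => by
    show Polynomial.map χ (e _) = _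
    rw [he]
  have hC : ∀ c, Away.map φ f c = polyToAway φ hf hz (Polynomial.C c) := fun c =>
    (Polynomial.eval₂_C _ _).symm
  have w : CommRingCat.ofHom χ ≫ CommRingCat.ofHom (algebraMap K K[X]) =
      CommRingCat.ofHom (Away.map φ f) ≫ CommRingCat.ofHom ξ :=
    CommRingCat.hom_ext (RingHom.ext fun c => by
      show Polynomial.C (χ c) = ξ (Away.map φ f c)
      rw [hC, hξ, Polynomial.map_C])
  refine ⟨CommRingCat.ofHom ξ, ⟨⟨w⟩, ⟨Limits.PushoutCocone.IsColimit.mk w (fun s => CommRingCat.ofHom
    (Polynomial.eval₂RingHom s.inl.hom (s.inr.hom (zFrac φ hf hz)))) (fun s => ?_) (fun s => ?_)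
    fun s m h₁ h₂ => ?_⟩⟩⟩
  · exact CommRingCat.hom_ext (RingHom.ext fun c => Polynomial.eval₂_C _ _)
  · refine CommRingCat.hom_ext (RingHom.ext fun x => ?_)
    obtain ⟨P, rfl⟩ := (bijective_polyToAway φ hφ hhat hf hz).2 x
    show Polynomial.eval₂ _ _ (ξ _) = s.inr.hom (polyToAway φ hf hz P)
    rw [hξ, Polynomial.eval₂_map, polyToAway, Polynomial.coe_eval₂RingHom, Polynomial.hom_eval₂]
    congr 1
    exact congrArg CommRingCat.Hom.hom s.condition
  · refine CommRingCat.hom_ext (Polynomial.ringHom_ext (fun c => ?_) ?_)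
    · exact (CategoryTheory.congr_fun h₁ c).trans (Polynomial.eval₂_C _ _).symm
    · have hX : ξ (zFrac φ hf hz) = Polynomial.X := by
        rw [show zFrac φ hf hz = polyToAway φ hf hz Polynomial.X from (Polynomial.eval₂_X _ _).symm,
          hξ, Polynomial.map_X]
      refine Eq.trans ?_ (Polynomial.eval₂_X _ _).symm
      conv_lhs => rw [← hX]
      exact CategoryTheory.congr_fun h₂ (zFrac φ hf hz)

end Groth.Agent.Cone34
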