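import Groth.Agent.Cone34.Poly
import Groth.Agent.Cone34.PointedFibre
import Groth.Agent.Proj16.ConeData

/-!
# Fibres of the retraction of the pointed projective cone
-/

set_option autoImplicit false
set_option linter.style.haveILetI false

universe u

open CategoryTheory CategoryTheory.Limits AlgebraicGeometry TopologicalSpace
open HomogeneousLocalization
open scoped HomogeneousIdeal Polynomial

namespace Groth.Agent.Cone34

variable {R A : Type u} [CommRing R] [CommRing A] [Algebra R A] (𝒜 : ℕ → Submodule R A) [GradedAlgebra 𝒜]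
  {B : Type u} [CommRing B] [Algebra R B] (ℬ : ℕ → Submodule R B) [GradedAlgebra ℬ]
  [Algebra A B] (φ : 𝒜 →+*ᵍ ℬ) (p : (PCone.dom φ : Scheme.{u}) ⟶ Proj 𝒜)
  (hp : ∀ (d : ℕ) (f : A) (hd : 0 < d) (hf : f ∈ 𝒜 d),
      PCone.chart φ hf hd ≫ p =
        Spec.map (CommRingCat.ofHom (Away.map φ f)) ≫ Proj.awayι 𝒜 f hf hd)

omit [Algebra A B] in
include hp in
theorem isPullback_pchart {d : ℕ} {f : A} (hf : f ∈ 𝒜 d) (hd : 0 < d) :
    IsPullback (PCone.chart φ hf hd) (Spec.map (CommRingCat.ofHom (Away.map φ f))) p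
      (Proj.awayι 𝒜 f hf hd) := by
  haveI : IsOpenImmersion (PCone.chart φ hf hd) := (Proj16.pconeData 𝒜 ℬ φ).isOpenImmersion hf hd
  refine (IsOpenImmersion.isPullback _ (PCone.chart φ hf hd) (Proj.awayι 𝒜 f hf hd) p
    (hp d f hd hf) ?_).flip
  rw [Proj.opensRange_awayι, (Proj16.pconeData 𝒜 ℬ φ).eq_map hp,
    Proj16.pconeData_preimage 𝒜 ℬ φ hf hd]
  rfl

include hp in
theorem projective_finiteType_fibre (hφ : ∀ a : A, φ a = algebraMap A B a) (z : B) (hz : z ∈ ℬ 1)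
    (hhat : Function.Bijective (Polynomial.aeval (R := A) z))
    (hgen : (HomogeneousIdeal.irrelevant 𝒜).toIdeal = Ideal.span (𝒜 1 : Set A)) (x : Proj 𝒜) :
    LocallyOfFiniteType p ∧ QuasiCompact p ∧
      ∃ e : pullback p ((Proj 𝒜).fromSpecResidueField x) ≅
          Spec (CommRingCat.of (Polynomial ((Proj 𝒜).residueField x))),
        e.hom ≫ Spec.map (CommRingCat.ofHom (algebraMap ((Proj 𝒜).residueField x)
          (Polynomial ((Proj 𝒜).residueField x)))) = pullback.snd p ((Proj 𝒜).fromSpecResidueField x) := by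
  haveI : IsAffineHom p := by
    rw [(Proj16.pconeData 𝒜 ℬ φ).eq_map hp]
    exact (Proj16.pconeData 𝒜 ℬ φ).isAffineHom_map (Proj16.pconeData_preimage 𝒜 ℬ φ)
  refine ⟨?_, inferInstance, ?_⟩
  · refine locallyOfFiniteType_of_charts p
      (fun f : 𝒜 1 => CommRingCat.of (Away 𝒜 (f : A)))
      (fun f : 𝒜 1 => CommRingCat.of (Away ℬ (φ (f : A))))
      (fun f => Proj.awayι 𝒜 (f : A) f.2 Nat.one_pos) ?_
      (fun f => CommRingCat.ofHom (Away.map φ (f : A)))
      (fun f => PCone.chart φ f.2 Nat.one_pos) (fun f => isPullback_pchart 𝒜 ℬ φ p hp f.2 Nat.one_pos)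
      fun f => finiteType_map φ hφ hhat f.2 hz
    refine eq_top_iff.2 fun y _ => ?_
    obtain ⟨f, hf, hy⟩ := exists_degree_one 𝒜 hgen y
    exact Opens.mem_iSup.2 ⟨⟨f, hf⟩, hy⟩
  obtain ⟨f, hf, hx⟩ := exists_degree_one 𝒜 hgen x
  refine exists_fibre_iso p _ (Proj.awayι 𝒜 f hf Nat.one_pos) (PCone.chart φ hf Nat.one_pos)
    (isPullback_pchart 𝒜 ℬ φ p hp hf Nat.one_pos) x hx _ fun χ => ?_
  obtain ⟨ξ, hξ⟩ := exists_isPushout_poly φ hφ hhat hf hz χ.hom
  exact ⟨ξ, hξ⟩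

end Groth.Agent.Cone34
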