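import Mathlib.AlgebraicGeometry.Pullbacks
import Mathlib.AlgebraicGeometry.Morphisms.IsIso
import Mathlib.AlgebraicGeometry.PullbackCarrier

/-!
# Cartesian squares can be checked on an open cover of a corner
-/

set_option autoImplicit false
set_option linter.style.haveILetI false

universe u

open CategoryTheory CategoryTheory.Limits AlgebraicGeometry TopologicalSpace

namespace Groth.Agent.Cone34

theorem isPullback_of_cover {P X Y S : Scheme.{u}} {fst : P ⟶ X} {snd : P ⟶ Y} {f : X ⟶ S}
    {g : Y ⟶ S} (sq : fst ≫ f = snd ≫ g) {ι : Type*} (T T' : ι → Scheme.{u}) (a : ∀ i, T i ⟶ X)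
    [∀ i, IsOpenImmersion (a i)] (hcov : ⨆ i, (a i).opensRange = ⊤)
    (b : ∀ i, T' i ⟶ P) (t : ∀ i, T' i ⟶ T i) (h₁ : ∀ i, IsPullback (b i) (t i) fst (a i))
    (h₂ : ∀ i, IsPullback (t i) (b i ≫ snd) (a i ≫ f) g) : IsPullback fst snd f g := by
  let w := pullback.lift _ _ sq
  suffices IsIso w from IsPullback.of_iso_pullback ⟨sq⟩ (asIso w)
    (pullback.lift_fst _ _ _) (pullback.lift_snd _ _ _)
  have hk : ∀ i, IsPullback (t i) (b i ≫ w) (a i) (pullback.fst f g) := fun i => by
    refine IsPullback.of_bot ?_ ?_ (IsPullback.of_hasPullback f g)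
    · rw [Category.assoc, pullback.lift_snd]
      exact h₂ i
    · rw [Category.assoc, pullback.lift_fst]
      exact (h₁ i).w.symm
  haveI : ∀ i, IsOpenImmersion (b i ≫ w) := fun i =>
    MorphismProperty.of_isPullback (hk i) inferInstance
  refine (IsZariskiLocalAtTarget.iff_of_iSup_eq_top (P := MorphismProperty.isomorphisms Scheme.{u})
    (fun i => (b i ≫ w).opensRange) ?_).2 fun i => ?_
  · refine eq_top_iff.2 fun x _ => ?_
    obtain ⟨i, z, hz⟩ := Opens.mem_iSup.1
      (show pullback.fst f g x ∈ ⨆ i, (a i).opensRange by rw [hcov]; trivial)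
    refine Opens.mem_iSup.2 ⟨i, ?_⟩
    obtain ⟨t', -, ht'⟩ := Scheme.Pullback.exists_preimage_pullback (f := a i)
      (g := pullback.fst f g) z x hz
    exact ⟨(hk i).isoPullback.inv t', by
      rw [← Scheme.Hom.comp_apply, IsPullback.isoPullback_inv_snd]; exact ht'⟩
  have hw : IsPullback (b i) (𝟙 _) w (b i ≫ w) := by
    refine IsPullback.of_bot ?_ (by rw [Category.id_comp]) (hk i).flip
    rw [Category.id_comp, pullback.lift_fst]
    exact h₁ i
  rw [MorphismProperty.arrow_mk_iso_iff (MorphismProperty.isomorphisms Scheme.{u})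
      (morphismRestrictOpensRange w (b i ≫ w)),
    ← MorphismProperty.cancel_left_of_respectsIso (MorphismProperty.isomorphisms Scheme.{u})
      hw.isoPullback.hom, hw.isoPullback_hom_snd]
  exact inferInstanceAs (IsIso _)

end Groth.Agent.Cone34
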