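import Groth.Prelude.Def_Cone
import Groth.Agent.Cone34.BaseChange
import Mathlib.AlgebraicGeometry.Morphisms.Affine

/-!
# The retraction of the pointed affine cone
-/

set_option autoImplicit false
set_option linter.style.haveILetI false

universe u

open CategoryTheory CategoryTheory.Limits AlgebraicGeometry TopologicalSpace
open HomogeneousLocalization
open scoped HomogeneousIdeal

namespace Groth.Agent.Cone34

variable {R A : Type u} [CommRing R] [CommRing A] [Algebra R A] (𝒜 : ℕ → Submodule R A) [GradedAlgebra 𝒜]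

theorem exists_homogeneous_notMem (P : Ideal A) (h : ¬ (𝒜₊).toIdeal ≤ P) :
    ∃ (d : ℕ) (f : A), 0 < d ∧ f ∈ 𝒜 d ∧ f ∉ P := by
  by_contra! hne
  exact h ((HomogeneousIdeal.toIdeal_irrelevant_le _).2 fun i hi a ha => hne i a hi ha)

theorem mem_pointed (p : Spec (CommRingCat.of A)) :
    p ∈ Cone.pointed 𝒜 ↔ ∃ (d : ℕ) (f : A), 0 < d ∧ f ∈ 𝒜 d ∧ f ∉ p.asIdeal := by
  refine ⟨fun h => exists_homogeneous_notMem 𝒜 _ h, fun ⟨d, f, hd, hf, hfp⟩ h => hfp ?_⟩
  exact h (HomogeneousIdeal.mem_irrelevant_of_mem 𝒜 hd hf)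

variable (π : (Cone.pointed 𝒜 : Scheme.{u}) ⟶ Proj 𝒜)
  (hπ : ∀ (d : ℕ) (f : A) (hd : 0 < d) (hf : f ∈ 𝒜 d),
      Cone.chart hf hd ≫ π =
        Spec.map (CommRingCat.ofHom (algebraMap (HomogeneousLocalization.Away 𝒜 f) (Localization.Away f))) ≫
          Proj.awayι 𝒜 f hf hd)

theorem exists_chart_eq (p : (Cone.pointed 𝒜 : Scheme.{u})) {d : ℕ} {f : A} (hd : 0 < d)
    (hf : f ∈ 𝒜 d) (hfp : f ∉ ((Cone.pointed 𝒜).ι.base p).asIdeal) :
    ∃ q, (Cone.chart hf hd).base q = p ∧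
      (q.asIdeal : Ideal (Localization.Away f)).comap (algebraMap A _) =
        ((Cone.pointed 𝒜).ι.base p).asIdeal := by
  have hmem : ((Cone.pointed 𝒜).ι.base p) ∈
      Set.range (PrimeSpectrum.comap (algebraMap A (Localization.Away f))) := by
    rw [PrimeSpectrum.localization_away_comap_range (Localization.Away f) f]
    exact hfp
  obtain ⟨q, hq⟩ := hmem
  refine ⟨q, (Cone.pointed 𝒜).ι.isOpenEmbedding.injective ?_, congrArg (fun x => x.asIdeal) hq⟩
  exact (congr($(IsOpenImmersion.lift_fac (Cone.pointed 𝒜).ι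
    (Spec.map (CommRingCat.ofHom (algebraMap A (Localization.Away f)))) (Cone.range_subset hf hd)).base q)).trans hq

include hπ in
theorem mem_map_iff (p : (Cone.pointed 𝒜 : Scheme.{u})) {i : ℕ} {g : A} (hg : g ∈ 𝒜 i) :
    g ∈ (π.base p).asHomogeneousIdeal ↔ g ∈ ((Cone.pointed 𝒜).ι.base p).asIdeal := by
  obtain ⟨d, f, hd, hf, hfp⟩ := (mem_pointed 𝒜 _).1 p.2
  obtain ⟨q, hq, hqp⟩ := exists_chart_eq 𝒜 p hd hf hfp
  have hπp : π.base p = (Proj.awayι 𝒜 f hf hd).base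
      ((Spec.map (CommRingCat.ofHom (algebraMap (Away 𝒜 f) (Localization.Away f)))).base q) := by
    rw [← hq, ← Scheme.Hom.comp_apply, hπ d f hd hf, Scheme.Hom.comp_apply]
  have hfπ : f ∉ (π.base p).asHomogeneousIdeal := by
    have h : π.base p ∈ (Proj.awayι 𝒜 f hf hd).opensRange := ⟨_, hπp.symm⟩
    rwa [Proj.opensRange_awayι] at h
  have key : ∀ {k : ℕ} (c : A) (_ : 0 < k) (_ : c ∈ 𝒜 k),
      c ∈ (π.base p).asHomogeneousIdeal ↔ c ∈ ((Cone.pointed 𝒜).ι.base p).asIdeal := by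
    intro k c hk hc
    refine not_iff_not.1 ?_
    show π.base p ∈ Proj.basicOpen 𝒜 c ↔ _
    rw [hπp, ← Scheme.Hom.mem_preimage, Proj.awayι_preimage_basicOpen 𝒜 hf hd hc hk]
    show ¬ (algebraMap (Away 𝒜 f) (Localization.Away f)) (Away.isLocalizationElem hf hc) ∈ q.asIdeal ↔ _
    refine not_congr ?_
    rw [← hqp, Ideal.mem_comap, HomogeneousLocalization.algebraMap_apply, Away.val_mk,
      Localization.mk_eq_mk', IsLocalization.mk'_mem_iff, map_pow]
    exact q.2.pow_mem_iff_mem d hd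
  have h1 := key (g * f) (by omega : 0 < i + d) (SetLike.mul_mem_graded hg hf)
  refine ⟨fun h => (((Cone.pointed 𝒜).ι.base p).2.mem_or_mem (h1.1 ?_)).resolve_right hfp,
    fun h => ((π.base p).isPrime.mem_or_mem (h1.2 ?_)).resolve_right hfπ⟩
  · exact Ideal.mul_mem_right f _ h
  · exact Ideal.mul_mem_right f _ h

include hπ in
theorem preimage_basicOpen {d : ℕ} {f : A} (hf : f ∈ 𝒜 d) :
    π ⁻¹ᵁ Proj.basicOpen 𝒜 f = (Cone.pointed 𝒜).ι ⁻¹ᵁ Cone.coneOpen f := by
  ext p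
  exact not_congr (mem_map_iff 𝒜 π hπ p hf)

include hπ in
theorem asHomogeneousIdeal_map (p : (Cone.pointed 𝒜 : Scheme.{u})) :
    (π.base p).asHomogeneousIdeal =
      (((Cone.pointed 𝒜).ι.base p).asIdeal).homogeneousCore 𝒜 := by
  classical
  set H := (((Cone.pointed 𝒜).ι.base p).asIdeal).homogeneousCore 𝒜
  refine HomogeneousIdeal.ext' fun i x hx => ?_
  rw [mem_map_iff 𝒜 π hπ p hx]
  exact ⟨fun h => Ideal.mem_homogeneousCore_of_homogeneous_of_mem ⟨i, hx⟩ h,
    fun h => Ideal.toIdeal_homogeneousCore_le 𝒜 _ h⟩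

include hπ in
theorem surjective_retraction : Surjective π := by
  refine ⟨fun x => ?_⟩
  let P : Spec (CommRingCat.of A) := ⟨x.asHomogeneousIdeal.toIdeal, x.isPrime⟩
  have hP : P ∈ Set.range (Cone.pointed 𝒜).ι.base := by
    rw [Scheme.Opens.range_ι]
    exact fun h => x.not_irrelevant_le h
  obtain ⟨p, hp⟩ := hP
  refine ⟨p, ProjectiveSpectrum.ext (HomogeneousIdeal.ext' fun i a ha => ?_)⟩
  rw [mem_map_iff 𝒜 π hπ p ha, hp]
  rfl

include hπ in
theorem isAffineHom_retraction : IsAffineHom π := by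
  refine isAffineHom_of_forall_exists_isAffineOpen π fun x => ?_
  obtain ⟨⟨d, hd, f, hf⟩, hx⟩ := Opens.mem_iSup.1
    (show x ∈ ⨆ i : (Σ' (d : ℕ) (_ : 0 < d) (f : A), f ∈ 𝒜 d),
      (Proj.awayι 𝒜 i.2.2.1 i.2.2.2 i.2.1).opensRange by rw [iSup_opensRange_awayι]; trivial)
  refine ⟨_, hx, isAffineOpen_opensRange _, ?_⟩
  haveI : IsOpenImmersion (Cone.chart hf hd) := by
    haveI : IsOpenImmersion (Spec.map (CommRingCat.ofHom (algebraMap A (Localization.Away f)))) :=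
      IsOpenImmersion.of_isLocalization f
    unfold Cone.chart
    infer_instance
  rw [Proj.opensRange_awayι, preimage_basicOpen 𝒜 π hπ hf]
  have : (Cone.pointed 𝒜).ι ⁻¹ᵁ Cone.coneOpen f = (Cone.chart hf hd).opensRange := by
    ext p
    refine ⟨fun h => ?_, ?_⟩
    · obtain ⟨q, hq, -⟩ := exists_chart_eq 𝒜 p hd hf h
      exact ⟨q, hq⟩
    · rintro ⟨q, rfl⟩
      show (Cone.pointed 𝒜).ι.base ((Cone.chart hf hd).base q) ∈ PrimeSpectrum.basicOpen f
      rw [← Scheme.Hom.comp_apply, Cone.chart, IsOpenImmersion.lift_fac]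
      exact (PrimeSpectrum.localization_away_comap_range (Localization.Away f) f).le ⟨q, rfl⟩
  rw [this]
  exact isAffineOpen_opensRange _

end Groth.Agent.Cone34
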