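import Groth.Prelude.Def_PCone
import Groth.Agent.Cone34.BaseChange

/-!
# The retraction of a pointed projective cone has a section
-/

set_option autoImplicit false
set_option linter.style.haveILetI false

universe u

open CategoryTheory CategoryTheory.Limits AlgebraicGeometry TopologicalSpace
open HomogeneousLocalization
open scoped HomogeneousIdeal

namespace Groth.Agent.Cone34

variable {R A : Type u} [CommRing R] [CommRing A] [Algebra R A] (𝒜 : ℕ → Submodule R A) [GradedAlgebra 𝒜]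
  {B : Type u} [CommRing B] [Algebra R B] (ℬ : ℕ → Submodule R B) [GradedAlgebra ℬ]
  (φ : 𝒜 →+*ᵍ ℬ) (ψ : ℬ →+*ᵍ 𝒜) (hψφ : ∀ a : A, ψ (φ a) = a)

theorem awayι_congr {d : ℕ} {f g : A} (e : f = g) (hf : f ∈ 𝒜 d) (hg : g ∈ 𝒜 d) (hd : 0 < d)
    (h : Away 𝒜 f →+* Away 𝒜 g)
    (hh : ∀ (n : ℕ) (a : A) (ha : a ∈ 𝒜 (n • d)), h (Away.mk 𝒜 hf n a ha) = Away.mk 𝒜 hg n a ha) :
    Spec.map (CommRingCat.ofHom h) ≫ Proj.awayι 𝒜 f hf hd = Proj.awayι 𝒜 g hg hd := by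
  subst e
  have h1 : h = RingHom.id _ := RingHom.ext fun x => by
    obtain ⟨n, a, ha, rfl⟩ := Away.mk_surjective 𝒜 hf x
    exact hh n a ha
  rw [h1, CommRingCat.ofHom_id, Spec.map_id, Category.id_comp]

include hψφ in
theorem exists_section (hψ : HomogeneousIdeal.irrelevant 𝒜 ≤ (HomogeneousIdeal.irrelevant ℬ).map ψ)
    (p : (PCone.dom φ : Scheme.{u}) ⟶ Proj 𝒜) (hp : ∀ (d : ℕ) (f : A) (hd : 0 < d) (hf : f ∈ 𝒜 d),
        PCone.chart φ hf hd ≫ p =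
          Spec.map (CommRingCat.ofHom (HomogeneousLocalization.Away.map φ f)) ≫ Proj.awayι 𝒜 f hf hd) :
    ∃ j : Proj 𝒜 ⟶ (PCone.dom φ : Scheme.{u}),
      j ≫ (PCone.dom φ).ι = Proj.map ψ hψ ∧ j ≫ p = 𝟙 (Proj 𝒜) := by
  classical
  have hsub : Set.range (Proj.map ψ hψ).base ⊆ Set.range (PCone.dom φ).ι.base := by
    rintro _ ⟨x, rfl⟩
    rw [Scheme.Opens.range_ι]
    obtain ⟨⟨d, hd, f, hf⟩, hx⟩ := Opens.mem_iSup.1
      (show x ∈ ⨆ i : (Σ' (d : ℕ) (_ : 0 < d) (f : A), f ∈ 𝒜 d),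
        (Proj.awayι 𝒜 i.2.2.1 i.2.2.2 i.2.1).opensRange by rw [iSup_opensRange_awayι]; trivial)
    rw [Proj.opensRange_awayι] at hx
    refine Opens.mem_iSup.2 ⟨⟨f, d, hd, hf⟩, ?_⟩
    show ψ (φ f) ∉ x.asHomogeneousIdeal
    rw [hψφ]
    exact hx
  let j := IsOpenImmersion.lift (PCone.dom φ).ι (Proj.map ψ hψ) hsub
  have hj : j ≫ (PCone.dom φ).ι = Proj.map ψ hψ := IsOpenImmersion.lift_fac _ _ _
  refine ⟨j, hj, ?_⟩
  let I := Σ' (d : ℕ) (_ : 0 < d) (f : A), f ∈ 𝒜 d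
  have hcov : ⨆ i : I, (Proj.awayι 𝒜 (ψ (φ i.2.2.1)) (ψ.2 (φ.2 i.2.2.2)) i.2.1).opensRange = ⊤ := by
    rw [← iSup_opensRange_awayι 𝒜]
    refine iSup_congr fun i => ?_
    rw [Proj.opensRange_awayι, Proj.opensRange_awayι, hψφ]
  refine Scheme.Cover.hom_ext ((Proj 𝒜).openCoverOfIsOpenCover _ hcov) _ _ fun i => ?_
  obtain ⟨d, hd, f, hf⟩ := i
  let a := Proj.awayι 𝒜 (ψ (φ f)) (ψ.2 (φ.2 hf)) hd
  show a.opensRange.ι ≫ j ≫ p = a.opensRange.ι ≫ 𝟙 _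
  rw [Category.comp_id, ← cancel_epi a.isoOpensRange.hom, Scheme.Hom.isoOpensRange_hom_ι_assoc,
    Scheme.Hom.isoOpensRange_hom_ι]
  have h1 : a ≫ j = Spec.map (CommRingCat.ofHom (Away.map ψ (φ f))) ≫ PCone.chart φ hf hd := by
    rw [← cancel_mono (PCone.dom φ).ι, Category.assoc, hj, Category.assoc, PCone.chart,
      IsOpenImmersion.lift_fac]
    exact Proj.awayι_comp_map ψ hψ hd (φ f) (φ.2 hf)
  rw [reassoc_of% h1, hp, ← Spec.map_comp_assoc, ← CommRingCat.ofHom_comp]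
  refine awayι_congr 𝒜 (hψφ f).symm hf (ψ.2 (φ.2 hf)) hd _ fun n b hb => ?_
  rw [RingHom.comp_apply, Away.map_mk, Away.map_mk]
  apply val_injective
  simp [Away.val_mk, hψφ]

end Groth.Agent.Cone34
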